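import Cfsg.Agent.LES.Monster
import Cfsg.Agent.S5542
import Cfsg.Agent.S1705

/-! The presented Monster carries the Monster type data. -/

set_option autoImplicit false

namespace Cfsg.Agent.MonL

open Subgroup Cfsg Cfsg.Spor

theorem finite_monster : Finite Monster :=
  Nat.finite_of_card_ne_zero (by rw [S1705.result.2]; norm_num)

theorem exists_monData : ∃ (z : Monster) (Q : Subgroup Monster)
    (π : centralizer ({z} : Set Monster) →* Co1) (φ : leechLattice → Monster),
    LES.MonData z Q π φ ∧ ∃ g : Monster, g * z * g⁻¹ ∈ Q ∧ g * z * g⁻¹ ≠ z := by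
  haveI := finite_monster
  obtain ⟨z, Q, _, hs, e, ψ, hψ⟩ := S5542.result
  obtain ⟨φ, d, -⟩ := LES.monData_of Q hs e ψ hψ
  exact ⟨z, _, _, φ, d, LES.nwc_of_setting hs⟩

end Cfsg.Agent.MonL
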