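import Cfsg.Agent.Mon.Trace
import Cfsg.Agent.Mon.TypeMap
import Cfsg.Agent.Mon.Iso

/-! The presented Monster carries the interface `If0`. -/

set_option autoImplicit false

namespace Cfsg.Agent.MonL

open Subgroup Cfsg Cfsg.Spor Cfsg.Agent.LES Cfsg.Agent.Mon

theorem if0_map {G G' : Type} [Group G] [Group G'] {z : G} {Q : Subgroup G}
    {π : centralizer ({z} : Set G) →* Co1} {ψ : leechLattice → G} (h : If0 z Q π ψ)
    (e : G ≃* G') :
    If0 (e z) (Q.map e.toMonoidHom) (π.comp (centBack e z)) (fun v => e (ψ v)) := by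
  have hm : ∀ x : G', x ∈ Q.map e.toMonoidHom ↔ e.symm x ∈ Q := fun x =>
    ⟨fun ⟨y, hy, a⟩ => by rw [← a]; simpa using hy, fun h => ⟨_, h, by simp⟩⟩
  have hA : ∀ x : G', x ∈ cA (fun v => e (ψ v)) ↔ e.symm x ∈ cA ψ := fun x =>
    ⟨fun a => by simpa [cA] using e.symm.toMonoidHom.map_isConj a,
      fun a => by simpa [cA] using e.toMonoidHom.map_isConj a⟩
  obtain ⟨g, h1, h2⟩ := h.nwc
  refine ⟨h.mon.map e, ⟨e g, ⟨_, h1, by simp⟩, fun a => h2 (e.injective (by simpa using a))⟩,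
    fun t k hk ht => h.sq (centBack e z t) k hk (e.injective (by simpa [centBack] using ht)),
    fun u k hk hu huQ => h.isA (centBack e z u) k hk ((hA _).1 hu) fun a => huQ ((hm _).2 a),
    fun u hu huQ k hk huk => ?_, fun u hu huQ a => h.nz (centBack e z u) ((hA _).1 hu)
      (fun a => huQ ((hm _).2 a)) (by simpa [centBack] using (hA _).1 a)⟩
  obtain ⟨q, hq, a⟩ := h.coset (centBack e z u) ((hA _).1 hu) (fun a => huQ ((hm _).2 a)) _
    ((hm _).1 hk) (by simpa [centBack] using (hA _).1 huk)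
  exact ⟨e q, ⟨q, hq, rfl⟩, e.symm.injective (by simpa [centBack] using a)⟩

theorem exists_if0 : ∃ (z : Monster) (Q : Subgroup Monster)
    (π : centralizer ({z} : Set Monster) →* Co1) (ψ : leechLattice → Monster), If0 z Q π ψ :=
  monster_iso.elim fun e => ⟨_, _, _, _, if0_map if0 e.symm⟩

end Cfsg.Agent.MonL
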