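import Cfsg.Agent.MonL.V5a

/-! The pointwise stabiliser `2^14 : S3` in `Co1` of the four-space, and a Singer cycle on it. -/

set_option autoImplicit false

namespace Cfsg.Agent.MonL.V5

open Subgroup Cfsg Cfsg.Spor Cfsg.Agent.Spor Cfsg.Agent.TT Cfsg.Agent.LES Cfsg.Agent.Spor.Leech
  Cfsg.Agent.LES.Co Cfsg.Agent.C1M Cfsg.Agent.XSC.C1 Cfsg.Agent.Comp Cfsg.Agent.Spor.M24C
open scoped Matrix Pointwise symmDiff

/-- coordinates of the four vectors -/
def cf : Fin 4 → List ℤ :=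
  ![[0, 0, 0, 0, 0, 0, 0, 0, 0, 0, 0, 0, 0, 0, 0, 0, 0, 0, 0, 0, 0, 0, 0, 1],
    [2, 2, 2, 2, 0, 0, 0, 0, 0, 0, 0, 0, -4, -3, -2, -2, -2, -2, -3, -2, -1, -1, -4, 12],
    [2, 0, 0, 2, 0, 0, 0, 0, 0, 0, 0, 0, -2, -1, -1, 0, -1, -2, -1, -1, 1, -1, -2, 5],
    [2, 0, 2, 0, 0, 0, 0, 0, 0, 0, 0, 0, -2, -1, -1, -1, -1, -1, -1, 0, -1, 1, -2, 4]]

/-- the four vectors -/
noncomputable def wv (k : Fin 4) : leechLattice := emb (toF (cf k))

theorem wv_zero : wv 0 = e8 none := Subtype.ext (funext fun p => by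
  rw [wv, emb_toF, coe_e8]; revert p; decide +kernel)

theorem wv_succ (k : Fin 3) (i : GolayPt) :
    (wv k.succ : GolayPt → ℤ) i = if i ∈ setOf' (tm k) then 4 else 0 := by
  simp only [wv, emb_toF, mem_setOf']; revert k i; decide +kernel

theorem wv_four (k : Fin 4) (i : GolayPt) : (wv k : GolayPt → ℤ) i % 4 = 0 := by
  rw [wv, emb_toF]; revert k i; decide +kernel

/-- the four vectors modulo two -/
noncomputable def AA : Matrix (Fin 24) (Fin 4) (ZMod 2) := Matrix.of fun l k => red (toF (cf k)) l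

theorem AA_inj : Function.Injective AA.mulVec :=
  (injective_iff_map_eq_zero AA.mulVecLin).2 (by
    change ∀ a, AA *ᵥ a = 0 → a = 0
    decide +kernel)

theorem exists_four (a : Fin 4 → ZMod 2) :
    ∃ x, red x = AA *ᵥ a ∧ ∀ i, (emb x : GolayPt → ℤ) i % 4 = 0 := by
  refine ⟨∑ k, ((a k).val : ℤ) • toF (cf k), funext fun l => ?_, fun i => ?_⟩
  · simp only [red, AA, Matrix.mulVec, dotProduct, Finset.sum_apply, Pi.smul_apply, smul_eq_mul,
      Int.cast_sum, Int.cast_mul, Int.cast_natCast, ZMod.natCast_zmod_val, Matrix.of_apply, mul_comm]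
  · rw [map_sum, AddSubgroup.val_finset_sum, Finset.sum_apply]
    refine Int.emod_eq_zero_of_dvd (Finset.dvd_sum fun k _ => ?_)
    rw [map_smul]
    exact (Int.dvd_of_emod_eq_zero (wv_four k i)).mul_left _

/-- the pointwise stabiliser -/
def SS : Subgroup Co1 where
  carrier := {g | rho g * AA = AA}
  one_mem' := by simp
  mul_mem' := fun {a b} ha hb => by
    change _ * _ = _ at *
    rw [map_mul, Matrix.mul_assoc, hb, ha]
  inv_mem' := fun {a} ha => by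
    change _ * _ = _ at *
    conv_lhs => rw [← ha, ← Matrix.mul_assoc, ← map_mul, inv_mul_cancel, map_one, Matrix.one_mul]

theorem mem_SS {g : Co0} : (g : Co1) ∈ SS ↔ ∀ k, ∃ y, g • wv k - wv k = y + y := by
  simp only [wv, ← emb_lin, ← red_eq_iff', ← rho0_red]
  exact ⟨fun h k => funext fun l => congrFun (congrFun h l) k,
    fun h => Matrix.ext fun l k => congrFun (h k) l⟩

theorem mem_SS' {g : Co0} : (g : Co1) ∈ SS ↔ ∃ σ c hc, g = mono σ c hc ∧ σ ∈ K0 ∧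
    ∀ k, (c ∩ setOf' (tm k)).card % 2 = 0 := by
  rw [mem_SS, Fin.forall_fin_succ, wv_zero, ← mem_monoSub_iff_congr]
  constructor
  · rintro ⟨h1, h2⟩
    obtain ⟨σ, c, hc, rfl⟩ := mem_monoSub_iff.1 h1
    exact ⟨σ, c, hc, rfl, fun k => ((w4_iff σ hc (wv_succ k)).1 (h2 k)).1,
      fun k => ((w4_iff σ hc (wv_succ k)).1 (h2 k)).2⟩
  · rintro ⟨σ, c, hc, rfl, h1, h2⟩
    exact ⟨mono_mem σ c hc, fun k => (w4_iff σ hc (wv_succ k)).2 ⟨h1 k, h2 k⟩⟩

/-- the sign changes on the octads of the trio -/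
noncomputable def vo (i : Fin 3) : Co1 := (sgn (setOf' (om i)) (om_GC i) : Co0)

theorem sgn_eq_vo {o : Finset GolayPt} {ho : o ∈ GC} (h8 : o.card = 8) {j : Fin 3} :
    ((sgn o ho : Co0) : Co1) = vo j ↔ o = setOf' (om j) := by
  rw [vo, mk_eq_mk_Co1, negOne_mul_sgn]
  refine ⟨fun h => h.elim sgn_inj fun h => ?_, fun h => Or.inl (sgn_congr h)⟩
  rw [sgn_inj h, Finset.card_compl, om_card, Leech.card_golayPt] at h8
  omega

theorem conj_vo {σ : M24} {c : Finset GolayPt} {hc : c ∈ GC} {i j : Fin 3} :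
    ((mono σ c hc : Co0) : Co1) * vo i * ((mono σ c hc : Co0) : Co1)⁻¹ = vo j ↔
      σ • setOf' (om i) = setOf' (om j) := by
  rw [vo, ← QuotientGroup.mk_inv, ← QuotientGroup.mk_mul, ← QuotientGroup.mk_mul, mono_conj_sgn,
    sgn_eq_vo (by rw [Finset.card_smul_finset, om_card])]

theorem exists_psi : ∃ f : SS →* Equiv.Perm (Fin 3),
    Function.Surjective f ∧ Nat.card f.ker = 2 ^ 14 := by
  have inj : Function.Injective vo := fun i j h => om_inj ((sgn_eq_vo (om_card i)).1 h)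
  obtain ⟨f, hf⟩ := exists_perm_hom vo inj SS fun n hn i => by
    obtain ⟨g, rfl⟩ := QuotientGroup.mk_surjective n
    obtain ⟨σ, c, hc, rfl, h, -⟩ := mem_SS'.1 hn
    exact (K0_trio h i).imp fun j => conj_vo.2
  have key : ∀ (c : ℕ) (τ : Equiv.Perm (Fin 3)), and' (okM c) (allL [15, 1310729, 2359301] fun t =>
      force (Nat.xor (imgC c t) t) isCW) = true → (∀ i, imgC c (om i) = om (τ i)) →
      τ ∈ f.range := fun c τ h1 h2 =>
    ⟨⟨_, mem_SS'.2 ⟨mc c, ∅, GC_empty, rfl, mc_mem_K0 h1, by simp⟩⟩, Equiv.ext fun i =>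
      inj ((hf _ i).trans (conj_vo.2 (by rw [mc_smul_setOf' ((and'_eq_true _ _).1 h1).1, h2])))⟩
  have k1 := key 464250586465023888971740384477645825 (Equiv.swap 1 2) (by decide +kernel)
    (by decide +kernel)
  have k2 := key 551902141596417310872713837298336367 (Equiv.swap 0 2) (by decide +kernel)
    (by decide +kernel)
  refine ⟨f, fun τ => ?_, ?_⟩
  · change τ ∈ f.range
    rcases perm_fin_three τ with rfl | rfl | rfl | rfl | rfl | rfl
    exacts [one_mem _, k1, k2, mul_mem k1 k2, mul_mem k2 k1, mul_mem (mul_mem k1 k2) k1]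
  have h1 := Grp.card_comap_mk' (center Co0) (f.ker.map SS.subtype)
  have h2 : ∀ g, g ∈ (f.ker.map SS.subtype).comap (QuotientGroup.mk' (center Co0)) ↔
      ∃ σ c hc, g = mono σ c hc ∧ σ ∈ K00 ∧ ∀ k, (c ∩ setOf' (tm k)).card % 2 = 0 := fun g => by
    constructor
    · rintro ⟨n, hn, e⟩
      replace e : (n : Co1) = (g : Co1) := e
      obtain ⟨σ, c, hc, rfl, a, b⟩ := mem_SS'.1 (e ▸ n.2)
      refine ⟨σ, c, hc, rfl, mem_K00.2 ⟨a, fun i => (conj_vo (hc := hc)).1 ?_⟩, b⟩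
      have := hf n i
      rw [show f n = 1 from hn, e] at this
      exact this.symm
    · rintro ⟨σ, c, hc, rfl, a, b⟩
      obtain ⟨a1, a2⟩ := mem_K00.1 a
      exact ⟨⟨_, mem_SS'.2 ⟨σ, c, hc, rfl, a1, b⟩⟩, Equiv.ext fun i =>
        inj ((hf _ i).trans (conj_vo.2 (a2 i))), rfl⟩
  have h3 := Nat.card_eq_of_bijective (fun p : K00 ×
      {c | c ∈ GC ∧ ∀ k, (c ∩ setOf' (tm k)).card % 2 = 0} =>
    (⟨mono p.1 p.2 p.2.2.1, (h2 _).2 ⟨_, _, _, rfl, p.1.2, p.2.2.2⟩⟩ :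
      (f.ker.map SS.subtype).comap (QuotientGroup.mk' (center Co0))))
    ⟨fun p q e => by
      obtain ⟨a, b⟩ := mono_inj (hc := p.2.2.1) (hd := q.2.2.1) (congrArg Subtype.val e)
      exact Prod.ext (Subtype.ext a) (Subtype.ext b), fun g => by
      obtain ⟨σ, c, hc, e, a, b⟩ := (h2 g).1 g.2
      exact ⟨(⟨σ, a⟩, ⟨c, hc, b⟩), Subtype.ext e.symm⟩⟩
  rw [Nat.card_prod, card_K00, Nat.card_coe_set_eq, ncard_A, h1, card_center_Co0,
    LES.card_map_subtype] at h3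
  exact Nat.eq_of_mul_eq_mul_right two_pos (h3.symm.trans (by norm_num))

/-- the Singer cycle on the four-space -/
def BB : Matrix (Fin 4) (Fin 4) (ZMod 2) := Matrix.of fun i j => bz (![13, 11, 7, 9] j) i

theorem exists_singer : ∃ g : Co1, rho g * AA = AA * BB :=
  ⟨_, by
    rw [← ml0.evM [9, 4, 0, 6, 3, 0, 9, 7, 12, 6, 4, 9, 10, 6, 16, 6, 9, 10, 12, 9, 17, 10, 14, 10,
      14, 12, 14, 16], show evM L0 [9, 4, 0, 6, 3, 0, 9, 7, 12, 6, 4, 9, 10, 6, 16, 6, 9, 10, 12, 9,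
        17, 10, 14, 10, 14, 12, 14, 16] = 0x58060427cbf4237a7f75ebc4ce6cd5391cbfdf238179b9c3f17e8b0f17565ba63e53f961000e5f74373f7432d976a820000d390001f076aa60000a965690ff5699c062b8a962b719
      by decide +kernel]
    decide +kernel⟩

theorem singer_ind {p : (Fin 4 → ZMod 2) → Prop} (h0 : p (Pi.single 0 1))
    (h : ∀ a, p a → p (BB *ᵥ a)) (a : Fin 4 → ZMod 2) (ha : a ≠ 0) : p a := by
  let v : ℕ → Fin 4 → ZMod 2 := fun k j => bz (getL 0 [1, 13, 3, 6, 12, 14, 5, 10, 2, 11, 15, 8, 9, 4, 7] k) j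
  have h1 : ∀ k < 15, p (v k) := fun k hk => by
    induction k with
    | zero => exact (by decide +kernel : Pi.single 0 1 = v 0) ▸ h0
    | succ k ih =>
      exact (by decide +kernel : ∀ k < 14, BB *ᵥ v k = v (k + 1)) k (by omega) ▸ h _ (ih (by omega))
  obtain ⟨k, hk, rfl⟩ := (by decide +kernel : ∀ a, a ≠ 0 → ∃ k < 15, v k = a) a ha
  exact h1 k hk

end Cfsg.Agent.MonL.V5
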